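import Mathlib

set_option autoImplicit false
set_option linter.unusedSectionVars false
open scoped Pointwise

/-! Generic tools: orbit sizes of permutation groups modulo primes, and automorphisms of a
permutation group that permute the point stabilisers. -/

namespace Cfsg.Agent.Lib.Helper28.OutGen

variable {Ω : Type*} [DecidableEq Ω] [Fintype Ω]

/-- fixed points in an invariant finset, modulo `p`. -/
theorem card_modEq_fix (x : Equiv.Perm Ω) (p : ℕ) [Fact p.Prime] (hx : x ^ p = 1) (S : Finset Ω)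
    (hS : ∀ q, x q ∈ S ↔ q ∈ S) : (S.filter fun q => x q = q).card ≡ S.card [MOD p] := by
  have h := Equiv.Perm.card_compl_support_modEq (σ := x.subtypePerm hS) (p := p) (n := 1) (by
    rw [pow_one, Equiv.Perm.subtypePerm_pow]
    ext q
    simp [hx])
  rw [Fintype.card_coe] at h
  have h2 : ((x.subtypePerm hS).support)ᶜ.card = (S.filter fun q => x q = q).card := by
    apply Finset.card_bij (fun q _ => q.1)
    · intro q hq
      rw [Finset.mem_compl, Equiv.Perm.mem_support, not_not] at hq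
      rw [Finset.mem_filter]
      exact ⟨q.2, congrArg Subtype.val hq⟩
    · intro q _ q' _ h
      exact Subtype.ext h
    · intro q hq
      rw [Finset.mem_filter] at hq
      refine ⟨⟨q, hq.1⟩, ?_, rfl⟩
      rw [Finset.mem_compl, Equiv.Perm.mem_support, not_not]
      exact Subtype.ext hq.2
  rwa [h2] at h

/-- the orbit as a finset. -/
noncomputable def orb (K : Subgroup (Equiv.Perm Ω)) (c : Ω) : Finset Ω := by
  classical exact Finset.univ.filter fun q => ∃ g ∈ K, g c = q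

theorem mem_orb {K : Subgroup (Equiv.Perm Ω)} {c q : Ω} : q ∈ orb K c ↔ ∃ g ∈ K, g c = q := by
  classical
  simp [orb]

theorem self_mem_orb (K : Subgroup (Equiv.Perm Ω)) (c : Ω) : c ∈ orb K c :=
  mem_orb.2 ⟨1, K.one_mem, rfl⟩

theorem orb_inv {K : Subgroup (Equiv.Perm Ω)} {c : Ω} {x : Equiv.Perm Ω} (hx : x ∈ K) (q : Ω) :
    x q ∈ orb K c ↔ q ∈ orb K c := by
  rw [mem_orb, mem_orb]
  constructor
  · rintro ⟨g, hg, h⟩
    refine ⟨x⁻¹ * g, K.mul_mem (K.inv_mem hx) hg, ?_⟩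
    show x⁻¹ (g c) = q
    rw [h, Equiv.Perm.inv_def, Equiv.symm_apply_apply]
  · rintro ⟨g, hg, rfl⟩
    exact ⟨x * g, K.mul_mem hx hg, rfl⟩

theorem coe_orb (K : Subgroup (Equiv.Perm Ω)) (c : Ω) :
    ((orb K c : Finset Ω) : Set Ω) = MulAction.orbit K c := by
  ext q
  rw [Finset.mem_coe, mem_orb]
  constructor
  · rintro ⟨g, hg, rfl⟩
    exact ⟨⟨g, hg⟩, rfl⟩
  · rintro ⟨g, rfl⟩
    exact ⟨g.1, g.2, rfl⟩

/-- orbit-stabiliser. -/
theorem card_eq_orb_mul (K : Subgroup (Equiv.Perm Ω)) (c : Ω) :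
    Nat.card K = (orb K c).card * Nat.card ↥(K ⊓ MulAction.stabilizer (Equiv.Perm Ω) c) := by
  rw [← (MulAction.stabilizer K c).card_mul_index, MulAction.index_stabilizer, mul_comm,
    ← coe_orb, Set.ncard_coe_finset]
  congr 1
  apply Nat.card_congr
  exact
    { toFun := fun x => ⟨x.1.1, ⟨x.1.2, x.2⟩⟩
      invFun := fun x => ⟨⟨x.1, x.2.1⟩, x.2.2⟩
      left_inv := fun _ => rfl
      right_inv := fun _ => rfl }

theorem not_mem_orb {K : Subgroup (Equiv.Perm Ω)} {c a : Ω} (ha : ∀ g ∈ K, g a = a) (hac : a ≠ c) :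
    a ∉ orb K c := by
  rw [mem_orb]
  rintro ⟨g, hg, h⟩
  apply hac
  have := ha g hg
  rw [← h] at this
  exact (g.injective this).symm ▸ h.symm ▸ rfl

theorem orb_card_mod_one {K : Subgroup (Equiv.Perm Ω)} {c : Ω} {x : Equiv.Perm Ω} (hx : x ∈ K)
    (p : ℕ) [Fact p.Prime] (hxp : x ^ p = 1) (hc : x c = c)
    (h : ∀ q, x q = q → q ≠ c → ∀ g ∈ K, g q = q) : (orb K c).card % p = 1 % p := by
  have h1 := card_modEq_fix x p hxp (orb K c) (orb_inv hx)
  have h2 : ((orb K c).filter fun q => x q = q) = {c} := by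
    ext q
    rw [Finset.mem_filter, Finset.mem_singleton]
    constructor
    · rintro ⟨hq, hxq⟩
      by_contra hne
      exact not_mem_orb (h q hxq hne) hne hq
    · rintro rfl
      exact ⟨self_mem_orb K q, hc⟩
  rw [h2, Finset.card_singleton] at h1
  exact h1.symm

theorem orb_card_mod_zero {K : Subgroup (Equiv.Perm Ω)} {c : Ω} {x : Equiv.Perm Ω} (hx : x ∈ K)
    (p : ℕ) [Fact p.Prime] (hxp : x ^ p = 1)
    (h : ∀ q, x q = q → q ≠ c ∧ ∀ g ∈ K, g q = q) : (orb K c).card % p = 0 := by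
  have h1 := card_modEq_fix x p hxp (orb K c) (orb_inv hx)
  have h2 : ((orb K c).filter fun q => x q = q) = ∅ := by
    rw [Finset.filter_eq_empty_iff]
    intro q hq hxq
    exact not_mem_orb (h q hxq).2 (h q hxq).1 hq
  rw [h2, Finset.card_empty] at h1
  exact h1.symm

theorem orb_card_le {K : Subgroup (Equiv.Perm Ω)} {c : Ω} (F : Finset Ω)
    (hF : ∀ a ∈ F, ∀ g ∈ K, g a = a) (hc : c ∉ F) :
    (orb K c).card + F.card ≤ Fintype.card Ω := by
  rw [← Finset.card_union_of_disjoint]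
  · exact Finset.card_le_univ _
  · rw [Finset.disjoint_left]
    intro a ha haF
    exact not_mem_orb (hF a haF) (fun h => hc (by rw [← h]; exact haF)) ha

theorem orb_card_pos (K : Subgroup (Equiv.Perm Ω)) (c : Ω) : 0 < (orb K c).card :=
  Finset.card_pos.2 ⟨c, self_mem_orb K c⟩

theorem fix_of_orb_card_one {K : Subgroup (Equiv.Perm Ω)} {c : Ω} (h : (orb K c).card = 1) :
    ∀ g ∈ K, g c = c := by
  intro g hg
  obtain ⟨a, ha⟩ := Finset.card_eq_one.1 h
  have h1 : c ∈ orb K c := self_mem_orb K c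
  have h2 : g c ∈ orb K c := mem_orb.2 ⟨g, hg, rfl⟩
  rw [ha, Finset.mem_singleton] at h1 h2
  rw [h2, h1]

/-- Cauchy inside a subgroup of a permutation group. -/
theorem exists_order (K : Subgroup (Equiv.Perm Ω)) (p : ℕ) [Fact p.Prime] (h : p ∣ Nat.card K) :
    ∃ x ∈ K, orderOf x = p := by
  obtain ⟨x, hx⟩ := exists_prime_orderOf_dvd_card' p h
  exact ⟨x.1, x.2, by rw [← hx, Subgroup.orderOf_coe]⟩

/-- A subgroup fixing a point whose stabiliser has the same order is that stabiliser. -/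
theorem eq_stab_of_fix {G K : Subgroup (Equiv.Perm Ω)} (hKG : K ≤ G) {y : Ω}
    (hy : ∀ g ∈ K, g y = y)
    (hc : Nat.card ↥(G ⊓ MulAction.stabilizer (Equiv.Perm Ω) y) = Nat.card K) :
    K = G ⊓ MulAction.stabilizer (Equiv.Perm Ω) y := by
  apply Subgroup.eq_of_le_of_card_ge
  · intro g hg
    exact ⟨hKG hg, hy g hg⟩
  · exact hc.le

/-- An automorphism mapping point stabilisers to point stabilisers is induced by a permutation. -/
theorem exists_perm_of_stab (G : Subgroup (Equiv.Perm Ω)) (α : G ≃* G)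
    (hst : ∀ x : Ω, (∃ g ∈ G, g x ≠ x) → ∃ y : Ω, ∀ g : G, g.1 x = x ↔ (α g).1 y = y)
    (hsep : ∀ x y : Ω, (∃ g ∈ G, g x ≠ x) → (∀ g ∈ G, g x = x ↔ g y = y) → x = y) :
    ∃ P : Equiv.Perm Ω, (∀ g : G, (α g).1 = P * g.1 * P⁻¹) ∧
      (∀ x, (∀ g ∈ G, g x = x) → P x = x) ∧
      (∀ x, ∀ g : G, g.1 x = x ↔ (α g).1 (P x) = P x) := by
  classical
  let f : Ω → Ω := fun x => if h : ∃ g ∈ G, g x ≠ x then (hst x h).choose else x
  have fmv : ∀ x, (h : ∃ g ∈ G, g x ≠ x) → ∀ g : G, g.1 x = x ↔ (α g).1 (f x) = f x := by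
    intro x h
    have : f x = (hst x h).choose := dif_pos h
    rw [this]
    exact (hst x h).choose_spec
  have ffx : ∀ x, (¬ ∃ g ∈ G, g x ≠ x) → f x = x := fun x h => dif_neg h
  have fall : ∀ x, ∀ g : G, g.1 x = x ↔ (α g).1 (f x) = f x := by
    intro x g
    by_cases h : ∃ g ∈ G, g x ≠ x
    · exact fmv x h g
    · rw [ffx x h]
      push Not at h
      exact ⟨fun _ => h _ (α g).2, fun _ => h _ g.2⟩
  have fmoved : ∀ x, (∃ g ∈ G, g x ≠ x) → ∃ g ∈ G, g (f x) ≠ f x := by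
    rintro x ⟨g, hg, hgx⟩
    exact ⟨(α ⟨g, hg⟩).1, (α ⟨g, hg⟩).2, fun hc => hgx ((fall x ⟨g, hg⟩).2 hc)⟩
  have feq : ∀ (g : G) (x : Ω), f (g.1 x) = (α g).1 (f x) := by
    intro g x
    by_cases h : ∃ k ∈ G, k x ≠ x
    · have h' : ∃ k ∈ G, k (g.1 x) ≠ g.1 x := by
        obtain ⟨k, hk, hkx⟩ := h
        refine ⟨g.1 * k * g.1⁻¹, G.mul_mem (G.mul_mem g.2 hk) (G.inv_mem g.2), ?_⟩
        show g.1 (k (g.1⁻¹ (g.1 x))) ≠ g.1 x
        rw [Equiv.Perm.inv_def, Equiv.symm_apply_apply]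
        exact fun hc => hkx (g.1.injective hc)
      apply hsep _ _ (fmoved _ h')
      intro k hk
      obtain ⟨k', hk'⟩ := α.surjective ⟨k, hk⟩
      have e1 : k = (α k').1 := by rw [hk']
      rw [e1, ← fall (g.1 x) k']
      have e2 : k'.1 (g.1 x) = g.1 x ↔ (g⁻¹ * k' * g).1 x = x := by
        show _ ↔ g.1⁻¹ (k'.1 (g.1 x)) = x
        rw [Equiv.Perm.inv_eq_iff_eq]
      rw [e2, fall x (g⁻¹ * k' * g), map_mul, map_mul, map_inv]
      show (α g).1⁻¹ ((α k').1 ((α g).1 (f x))) = f x ↔ _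
      rw [Equiv.Perm.inv_eq_iff_eq]
    · have h2 := h
      push Not at h2
      rw [h2 _ g.2, ffx x h, h2 _ (α g).2]
  have finj : Function.Injective f := by
    intro x x' hxx
    by_cases h : ∃ k ∈ G, k x ≠ x
    · apply hsep x x' h
      intro k hk
      rw [fall x ⟨k, hk⟩, fall x' ⟨k, hk⟩, hxx]
    · by_cases h' : ∃ k ∈ G, k x' ≠ x'
      · symm
        apply hsep x' x h'
        intro k hk
        rw [fall x ⟨k, hk⟩, fall x' ⟨k, hk⟩, hxx]
      · rw [ffx x h, ffx x' h'] at hxx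
        exact hxx
  refine ⟨Equiv.ofBijective f (Finite.injective_iff_bijective.1 finj), ?_, ?_, ?_⟩
  · intro g
    ext y
    obtain ⟨x, rfl⟩ := (Finite.injective_iff_bijective.1 finj).2 y
    show _ = f (g.1 ((Equiv.ofBijective f _)⁻¹ (f x)))
    have : (Equiv.ofBijective f (Finite.injective_iff_bijective.1 finj))⁻¹ (f x) = x := by
      rw [Equiv.Perm.inv_eq_iff_eq]; rfl
    rw [this, feq]
  · intro x hx
    apply ffx
    push Not
    exact hx
  · intro x g
    exact fall x g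

/-- the image of a point stabiliser under an automorphism. -/
theorem hst_of_index (G : Subgroup (Equiv.Perm Ω)) (α : G ≃* G) (x : Ω)
    (hidx : ∀ K : Subgroup (Equiv.Perm Ω), K ≤ G →
      Nat.card K = Nat.card ↥(G ⊓ MulAction.stabilizer (Equiv.Perm Ω) x) →
      ∃ y : Ω, K = G ⊓ MulAction.stabilizer (Equiv.Perm Ω) y) :
    ∃ y : Ω, ∀ g : G, g.1 x = x ↔ (α g).1 y = y := by
  let S : Subgroup G := (MulAction.stabilizer (Equiv.Perm Ω) x).subgroupOf G
  let K : Subgroup (Equiv.Perm Ω) := (S.map α.toMonoidHom).map G.subtype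
  have hK : ∀ g : G, (α g).1 ∈ K ↔ g.1 x = x := by
    intro g
    constructor
    · rintro ⟨k, ⟨s, hs, rfl⟩, hk⟩
      have : α s = α g := Subtype.ext hk
      rw [← α.injective this]
      exact hs
    · intro h
      exact ⟨α g, ⟨g, h, rfl⟩, rfl⟩
  have hKG : K ≤ G := by
    rintro _ ⟨k, _, rfl⟩
    exact k.2
  have hcard : Nat.card K = Nat.card ↥(G ⊓ MulAction.stabilizer (Equiv.Perm Ω) x) := by
    rw [Subgroup.card_map_of_injective G.subtype_injective,
      Subgroup.card_map_of_injective α.injective]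
    apply Nat.card_congr
    exact
      { toFun := fun s => ⟨s.1.1, ⟨s.1.2, s.2⟩⟩
        invFun := fun s => ⟨⟨s.1, s.2.1⟩, s.2.2⟩
        left_inv := fun _ => rfl
        right_inv := fun _ => rfl }
  obtain ⟨y, hy⟩ := hidx K hKG hcard
  refine ⟨y, fun g => ?_⟩
  rw [← hK g, hy, Subgroup.mem_inf]
  exact ⟨fun h => h.2, fun h => ⟨(α g).2, h⟩⟩

theorem mem_inn_of_conj (G : Subgroup (Equiv.Perm Ω)) (α : MulAut G) (P : Equiv.Perm Ω)
    (hP : P ∈ G) (h : ∀ g : G, (α g).1 = P * g.1 * P⁻¹) :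
    α ∈ (MulAut.conj : G →* MulAut G).range := by
  refine ⟨⟨P, hP⟩, ?_⟩
  ext g
  rw [h g]
  rfl

theorem card_out_eq_one {G : Type*} [Group G]
    (h : ∀ α : MulAut G, α ∈ (MulAut.conj : G →* MulAut G).range) :
    Nat.card (MulAut G ⧸ (MulAut.conj : G →* MulAut G).range) = 1 := by
  have : (MulAut.conj : G →* MulAut G).range = ⊤ := by
    rw [eq_top_iff]; intro α _; exact h α
  exact Subgroup.index_eq_one.2 this

end Cfsg.Agent.Lib.Helper28.OutGen
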