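import Mathlib
import Cfsg.Agent.Lib.Helper3.ClassFix
import Cfsg.Agent.Lib.Helper3.MathieuSimple
import Cfsg.Agent.Lib.Helper28.OutGen

set_option autoImplicit false
open scoped Pointwise
open Cfsg Cfsg.Agent.Lib.Helper3 Cfsg.Agent.Lib.Helper28.OutGen

/-! Common tools for the automorphism groups of the Mathieu groups. -/

namespace Cfsg.Agent.Lib.Helper28.OutMath

/-- point stabiliser in the symmetric group. -/
abbrev St (a : GolayPt) : Subgroup (Equiv.Perm GolayPt) :=
  MulAction.stabilizer (Equiv.Perm GolayPt) a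

theorem card_pts : Fintype.card GolayPt = 24 := rfl

theorem card_mul (K : Subgroup (Equiv.Perm GolayPt)) (c : GolayPt) :
    Nat.card K = (orb K c).card * Nat.card ↥(K ⊓ St c) := card_eq_orb_mul K c

theorem card_Fx_le {x : Equiv.Perm GolayPt} (hx : x ∈ M24) (h1 : x ≠ 1) : (Fx x).card ≤ 8 := by
  by_contra h
  exact h1 (fix9 hx (Fx x) (by omega) (fun p hp => mem_Fx.1 hp))

theorem card_Fx_mod {x : Equiv.Perm GolayPt} (p : ℕ) [Fact p.Prime] (hxp : x ^ p = 1) :
    (Fx x).card % p = 24 % p :=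
  card_modEq_fix x p hxp Finset.univ (by simp)

theorem pow_of_order {x : Equiv.Perm GolayPt} {p : ℕ} (h : orderOf x = p) : x ^ p = 1 :=
  h ▸ pow_orderOf_eq_one x

theorem ne_one_of_order {x : Equiv.Perm GolayPt} {p : ℕ} [hp : Fact p.Prime] (h : orderOf x = p) :
    x ≠ 1 := by
  rintro rfl
  rw [orderOf_one] at h
  exact hp.out.one_lt.ne h

theorem card_Fx_prime {x : Equiv.Perm GolayPt} (hx : x ∈ M24) (p : ℕ) [hp : Fact p.Prime]
    (h8 : 8 < 24 % p + p) (ho : orderOf x = p) : (Fx x).card = 24 % p := by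
  have h1 := card_Fx_le hx (ne_one_of_order ho)
  have h2 := card_Fx_mod p (pow_of_order ho)
  have h3 := Nat.div_add_mod (Fx x).card p
  rcases Nat.eq_zero_or_pos ((Fx x).card / p) with h4 | h4
  · rw [h4, mul_zero, zero_add] at h3
    rw [← h3, h2]
  · have h5 : p ≤ p * ((Fx x).card / p) := Nat.le_mul_of_pos_right p h4
    omega

theorem fix_insert {K : Subgroup (Equiv.Perm GolayPt)} {F : Finset GolayPt} (a : GolayPt)
    (hF : ∀ q ∈ F, ∀ g ∈ K, g q = q) : ∀ q ∈ insert a F, ∀ g ∈ K ⊓ St a, g q = q := by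
  intro q hq g hg
  rcases Finset.mem_insert.1 hq with rfl | hq
  · exact hg.2
  · exact hF q hq g hg.1

theorem orb_mod {K : Subgroup (Equiv.Perm GolayPt)} (hK : K ≤ M24) {F : Finset GolayPt}
    (hF : ∀ q ∈ F, ∀ g ∈ K, g q = q) {c : GolayPt} (hc : c ∉ F) (p : ℕ) [Fact p.Prime]
    (h8 : 8 < 24 % p + p) (hdvd : p ∣ Nat.card K) :
    ∃ j, j + F.card ≤ 24 % p ∧ (orb K c).card % p = j % p := by
  obtain ⟨x, hx, ho⟩ := exists_order K p hdvd
  refine ⟨((orb K c).filter fun q => x q = q).card, ?_,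
    (card_modEq_fix x p (pow_of_order ho) (orb K c) (orb_inv hx)).symm⟩
  rw [← card_Fx_prime (hK hx) p h8 ho, ← Finset.card_union_of_disjoint]
  · apply Finset.card_le_card
    intro q hq
    rcases Finset.mem_union.1 hq with hq | hq
    · exact mem_Fx.2 (Finset.mem_filter.1 hq).2
    · exact mem_Fx.2 (hF q hq x hx)
  · rw [Finset.disjoint_left]
    intro q hq hqF
    exact not_mem_orb (hF q hqF) (fun h => hc (by rw [← h]; exact hqF)) (Finset.mem_filter.1 hq).1

theorem exists_pt {K : Subgroup (Equiv.Perm GolayPt)} (hK : K ≤ M24) {F : Finset GolayPt}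
    (hF : ∀ q ∈ F, ∀ g ∈ K, g q = q) (p : ℕ) [Fact p.Prime]
    (h8 : 8 < 24 % p + p) (hdvd : p ∣ Nat.card K) (hc : F.card + 1 = 24 % p) :
    ∃ c, c ∉ F ∧ (orb K c).card % p = 1 % p := by
  obtain ⟨x, hx, ho⟩ := exists_order K p hdvd
  have h1 := card_Fx_prime (hK hx) p h8 ho
  have hsub : F ⊆ Fx x := fun q hq => mem_Fx.2 (hF q hq x hx)
  have h2 : (Fx x \ F).card = 1 := by
    rw [Finset.card_sdiff_of_subset hsub]; omega
  obtain ⟨c, hc'⟩ := Finset.card_eq_one.1 h2
  have hcm : c ∈ Fx x \ F := by rw [hc']; exact Finset.mem_singleton_self c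
  rw [Finset.mem_sdiff] at hcm
  refine ⟨c, hcm.2, orb_card_mod_one hx p (pow_of_order ho) (mem_Fx.1 hcm.1) ?_⟩
  intro q hq hqc
  apply hF
  by_contra hqF
  have : q ∈ Fx x \ F := Finset.mem_sdiff.2 ⟨mem_Fx.2 hq, hqF⟩
  rw [hc', Finset.mem_singleton] at this
  exact hqc this

theorem order_conj (k g : Equiv.Perm GolayPt) : orderOf (k * g * k⁻¹) = orderOf g :=
  (MulAut.conj k).orderOf_eq g

/-- the fixed points of an involution with a fixed point form an octad. -/
theorem Fx_invol {g : Equiv.Perm GolayPt} (hg : g ∈ M24) (ho : orderOf g = 2) {p : GolayPt}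
    (hp : g p = p) : Fx g ∈ octads := by
  rcases invol_cases hg ho with ⟨k, hk, h, _⟩ | ⟨k, hk, h, h0⟩
  · have h1 := Fx_conj k g
    rw [h, Fx_zA] at h1
    have h2 : Fx g = k⁻¹ • O0 := by rw [h1, inv_smul_smul]
    rw [h2]
    exact smul_mem_octads (M24.inv_mem hk) O0_mem
  · exact absurd hp (Fx_card_zero_iff.1 h0 p)

/-- every octad is the set of fixed points of an involution. -/
theorem exists_invol {o : Finset GolayPt} (ho : o ∈ octads) :
    ∃ t ∈ M24, orderOf t = 2 ∧ Fx t = o := by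
  obtain ⟨u, hu, huo⟩ := octad_to_O0 ho
  refine ⟨u⁻¹ * wperm zAw * u⁻¹⁻¹, M24.mul_mem (M24.mul_mem (M24.inv_mem hu) (wperm_mem _))
    (M24.inv_mem (M24.inv_mem hu)), ?_, ?_⟩
  · rw [order_conj, orderOf_zA]
  · rw [Fx_conj, Fx_zA, ← huo, inv_smul_smul]

/-- a permutation conjugating an involution of the group into the group maps its octad to an
octad. -/
theorem smul_octad_of_conj {P t : Equiv.Perm GolayPt} (ht2 : orderOf t = 2)
    {o : Finset GolayPt} (ho : o ∈ octads) (hFx : Fx t = o) (hP : P * t * P⁻¹ ∈ M24) :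
    P • o ∈ octads := by
  have h1 : Fx (P * t * P⁻¹) = P • o := by rw [Fx_conj, hFx]
  obtain ⟨p, hp⟩ : o.Nonempty := by rw [← Finset.card_pos, ho.2]; norm_num
  have h2 : P p ∈ Fx (P * t * P⁻¹) := by
    rw [h1]; exact Finset.smul_mem_smul_finset hp
  rw [← h1]
  exact Fx_invol hP (by rw [order_conj, ht2]) (mem_Fx.1 h2)

/-- xor of a list of masks. -/
def xorl (l : List ℕ) : ℕ := l.foldr (fun a b => a ^^^ b) 0

theorem smul_xorl (P : Equiv.Perm GolayPt) (l : List ℕ) (h : ∀ m ∈ l, P • unmask m ∈ CS) :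
    P • unmask (xorl l) ∈ CS := by
  induction l with
  | nil =>
    have : unmask (xorl []) = ∅ := by ext p; simp [unmask, xorl]
    rw [this, Finset.smul_finset_empty, mem_supports_iff, mask_empty]
    decide +kernel
  | cons a l ih =>
    have : xorl (a :: l) = a ^^^ xorl l := rfl
    rw [this, unmask_xor, Finset.smul_finset_symmDiff]
    exact supports_symmDiff (h a (by simp)) (ih fun m hm => h m (by simp [hm]))

/-- membership in the group from a certificate expressing the basis. -/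
theorem mem_M24_of_cert (P : Equiv.Perm GolayPt) (Q : ℕ → Bool)
    (hQ : ∀ m, Q m = true → P • unmask m ∈ CS) (cert : List (List ℕ))
    (h1 : cert.map xorl = basisList) (h2 : (cert.all fun l => l.all Q) = true) : P ∈ M24 := by
  apply mem_M24_of_basis
  intro b hb
  rw [← h1, List.mem_map] at hb
  obtain ⟨l, hl, rfl⟩ := hb
  rw [← mem_supports_iff]
  apply smul_xorl
  intro m hm
  apply hQ
  rw [List.all_eq_true] at h2
  have := h2 l hl
  rw [List.all_eq_true] at this
  exact this m hm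

/-- no subgroup of order forty fixes four points. -/
theorem no_order_forty {L : Subgroup (Equiv.Perm GolayPt)} (hL : L ≤ M24) {F : Finset GolayPt}
    (hF : ∀ q ∈ F, ∀ g ∈ L, g q = q) (hF4 : F.card = 4) (hcard : Nat.card L = 40) : False := by
  have : Fact (Nat.Prime 5) := ⟨by norm_num⟩
  have : Fact (Nat.Prime 2) := ⟨by norm_num⟩
  obtain ⟨P⟩ : Nonempty (Sylow 5 L) := inferInstance
  have hP : Nat.card (P : Subgroup L) = 5 := by
    rw [Sylow.card_eq_multiplicity, hcard]
    have : (40 : ℕ).factorization 5 = 1 := by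
      have : (40 : ℕ) = 5 ^ 1 * 8 := by norm_num
      rw [this, Nat.factorization_mul (by norm_num) (by norm_num)]
      simp [Nat.Prime.factorization_self (show Nat.Prime 5 by norm_num),
        Nat.factorization_eq_zero_of_not_dvd (show ¬ 5 ∣ 8 by norm_num)]
    rw [this, pow_one]
  obtain ⟨r, n, hr, hN, hG, hn⟩ := card_normalizer_sylow 5 P hP
  rw [hcard, hN] at hG
  have h2C : 2 ∣ Nat.card (Subgroup.centralizer ((P : Subgroup L) : Set L)) := by
    set c := Nat.card (Subgroup.centralizer ((P : Subgroup L) : Set L)) with hc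
    have hr4 : r ≤ 4 := Nat.le_of_dvd (by norm_num) hr
    have hn40 : n ∣ 40 := ⟨c * r, by rw [hG]; ring⟩
    have hn' : n ≤ 40 := Nat.le_of_dvd (by norm_num) hn40
    have hn1 : n = 1 := by
      interval_cases n <;> first | rfl | omega
    subst hn1
    interval_cases r
    · omega
    · omega
    · omega
    · omega
    · omega
  obtain ⟨s, hs⟩ := exists_prime_orderOf_dvd_card' 2 h2C
  obtain ⟨w, hw⟩ := exists_prime_orderOf_dvd_card' (G := (P : Subgroup L)) 5 (by rw [hP])
  have hcomm : w.1.1 * s.1.1 = s.1.1 * w.1.1 := by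
    have := Subgroup.mem_centralizer_iff.1 s.2 w.1 w.2
    exact congrArg Subtype.val this
  have hs2 : orderOf s.1.1 = 2 := by rw [Subgroup.orderOf_coe, Subgroup.orderOf_coe, hs]
  have hw5 : orderOf w.1.1 = 5 := by rw [Subgroup.orderOf_coe, Subgroup.orderOf_coe, hw]
  have hFw : Fx w.1.1 = F := by
    symm
    apply Finset.eq_of_subset_of_card_le
    · intro q hq
      exact mem_Fx.2 (hF q hq _ w.1.2)
    · rw [card_Fx_prime (hL w.1.2) 5 (by norm_num) hw5, hF4]
  have hinv : ∀ q, w.1.1 q ∈ Fx s.1.1 ↔ q ∈ Fx s.1.1 := by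
    intro q
    rw [mem_Fx, mem_Fx]
    have e : s.1.1 (w.1.1 q) = w.1.1 (s.1.1 q) := by
      have := congrArg (fun f : Equiv.Perm GolayPt => f q) hcomm
      exact this.symm
    rw [e]
    exact w.1.1.injective.eq_iff
  have h5 := card_modEq_fix w.1.1 5 (pow_of_order hw5) (Fx s.1.1) hinv
  have hfil : ((Fx s.1.1).filter fun q => w.1.1 q = q) = F := by
    ext q
    rw [Finset.mem_filter, ← mem_Fx (g := w.1.1), hFw]
    exact ⟨fun h => h.2, fun h => ⟨mem_Fx.2 (hF q h _ s.1.2), h⟩⟩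
  rw [hfil, hF4] at h5
  rcases invol_cases (hL s.1.2) hs2 with ⟨_, _, _, h8⟩ | ⟨_, _, _, h0⟩
  · rw [h8] at h5; exact absurd h5 (by decide)
  · rw [h0] at h5; exact absurd h5 (by decide)

theorem exists_not_mem (F : Finset GolayPt) (h : F.card < 24) : ∃ b, b ∉ F := by
  by_contra hc
  push Not at hc
  have : F = Finset.univ := Finset.eq_univ_iff_forall.2 hc
  rw [this, Finset.card_univ, card_pts] at h
  omega

theorem card_orb_of_trans {K : Subgroup (Equiv.Perm GolayPt)} {F : Finset GolayPt} {c : GolayPt}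
    (hF : ∀ q ∈ F, ∀ g ∈ K, g q = q) (hc : c ∉ F) (htr : ∀ q, q ∉ F → ∃ g ∈ K, g c = q) :
    (orb K c).card + F.card = 24 := by
  have h : orb K c = Finset.univ \ F := by
    ext q
    rw [Finset.mem_sdiff]
    constructor
    · intro hq
      refine ⟨Finset.mem_univ _, fun hqF => ?_⟩
      exact not_mem_orb (hF q hqF) (fun h => hc (by rw [← h]; exact hqF)) hq
    · intro hq
      exact mem_orb.2 (htr q hq.2)
  rw [h, Finset.card_sdiff_of_subset (Finset.subset_univ _), Finset.card_univ, card_pts]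
  have : F.card ≤ 24 := by
    rw [← card_pts]; exact Finset.card_le_univ _
  omega

theorem card_St1 (a : GolayPt) : Nat.card ↥(M24 ⊓ St a) = 10200960 := by
  have h1 := card_mul M24 a
  have h2 := card_orb_of_trans (K := M24) (F := ∅) (c := a) (by simp) (by simp) (by
    intro q _
    obtain ⟨g, hg, h⟩ := M24_lists [a] [q] (by simp) (by simp) rfl (by simp)
    exact ⟨g, hg, h 0 (by simp)⟩)
  rw [Finset.card_empty, add_zero] at h2
  rw [h2, card_M24] at h1
  omega

theorem card_St2 {a b : GolayPt} (hab : a ≠ b) : Nat.card ↥(M24 ⊓ St a ⊓ St b) = 443520 := by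
  have h1 := card_mul (M24 ⊓ St a) b
  have h2 := card_orb_of_trans (K := M24 ⊓ St a) (F := {a}) (c := b) (by
      intro q hq g hg
      rw [Finset.mem_singleton] at hq
      rw [hq]; exact hg.2) (by simpa using hab.symm) (by
    intro q hq
    rw [Finset.mem_singleton] at hq
    obtain ⟨g, hg, h⟩ := M24_lists [a, b] [a, q] (by simp [hab]) (by simp [Ne.symm hq]) rfl
      (by simp)
    exact ⟨g, ⟨hg, h 0 (by simp)⟩, h 1 (by simp)⟩)
  rw [Finset.card_singleton] at h2
  rw [card_St1] at h1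
  have : (orb (M24 ⊓ St a) b).card = 23 := by omega
  rw [this] at h1
  omega

theorem card_St3 {a b c : GolayPt} (hab : a ≠ b) (hac : a ≠ c) (hbc : b ≠ c) :
    Nat.card ↥(M24 ⊓ St a ⊓ St b ⊓ St c) = 20160 := by
  have h1 := card_mul (M24 ⊓ St a ⊓ St b) c
  have h2 := card_orb_of_trans (K := M24 ⊓ St a ⊓ St b) (F := {a, b}) (c := c) (by
      intro q hq g hg
      rw [Finset.mem_insert, Finset.mem_singleton] at hq
      rcases hq with rfl | rfl
      · exact hg.1.2
      · exact hg.2) (by simp [hac.symm, hbc.symm]) (by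
    intro q hq
    rw [Finset.mem_insert, Finset.mem_singleton, not_or] at hq
    obtain ⟨g, hg, h⟩ := M24_lists [a, b, c] [a, b, q] (by simp [hab, hac, hbc])
      (by simp [hab, Ne.symm hq.1, Ne.symm hq.2]) rfl (by simp)
    exact ⟨g, ⟨⟨hg, h 0 (by simp)⟩, h 1 (by simp)⟩, h 2 (by simp)⟩)
  rw [Finset.card_pair hab] at h2
  rw [card_St2 hab] at h1
  have : (orb (M24 ⊓ St a ⊓ St b) c).card = 22 := by omega
  rw [this] at h1
  omega

/-- subgroups of index 24 are point stabilisers. -/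
theorem index_M24 {K : Subgroup (Equiv.Perm GolayPt)} (hK : K ≤ M24)
    (hcard : Nat.card K = 10200960) : ∃ y, K = M24 ⊓ St y := by
  have : Fact (Nat.Prime 23) := ⟨by norm_num⟩
  have : Fact (Nat.Prime 11) := ⟨by norm_num⟩
  have : Fact (Nat.Prime 7) := ⟨by norm_num⟩
  have : Fact (Nat.Prime 5) := ⟨by norm_num⟩
  have hF0 : ∀ q ∈ (∅ : Finset GolayPt), ∀ g ∈ K, g q = q := by simp
  obtain ⟨a, ha0, ha⟩ := exists_pt hK hF0 23 (by norm_num) (by rw [hcard]; norm_num) (by simp)
  have hle := orb_card_le ∅ hF0 ha0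
  have hpos := orb_card_pos K a
  have hmul := card_mul K a
  rw [card_pts, Finset.card_empty] at hle
  rcases (show (orb K a).card = 1 ∨ (orb K a).card = 24 by omega) with h1 | h24
  · exact ⟨a, eq_stab_of_fix hK (fix_of_orb_card_one h1) (by rw [card_St1, hcard])⟩
  exfalso
  have c1 : Nat.card ↥(K ⊓ St a) = 425040 := by
    rw [hcard, h24] at hmul; omega
  have hK1 : K ⊓ St a ≤ M24 := inf_le_left.trans hK
  have hF1 := fix_insert a hF0
  have hc1 : (insert a (∅ : Finset GolayPt)).card = 1 := by simp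
  obtain ⟨b, hb⟩ := exists_not_mem (insert a (∅ : Finset GolayPt)) (by rw [hc1]; norm_num)
  obtain ⟨j, hj, hjm⟩ := orb_mod hK1 hF1 hb 23 (by norm_num) (by rw [c1]; norm_num)
  have hle := orb_card_le _ hF1 hb
  have hpos := orb_card_pos (K ⊓ St a) b
  have hmul := card_mul (K ⊓ St a) b
  rw [card_pts, hc1] at hle
  rw [hc1] at hj
  have h23 : (orb (K ⊓ St a) b).card = 23 := by
    have : j = 0 := by omega
    subst this
    omega
  have c2 : Nat.card ↥(K ⊓ St a ⊓ St b) = 18480 := by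
    rw [c1, h23] at hmul; omega
  have hK2 : K ⊓ St a ⊓ St b ≤ M24 := inf_le_left.trans hK1
  have hF2 := fix_insert b hF1
  have hc2 : (insert b (insert a (∅ : Finset GolayPt))).card = 2 := by
    rw [Finset.card_insert_of_notMem hb, hc1]
  obtain ⟨c, hc, hcm⟩ := exists_pt hK2 hF2 7 (by norm_num) (by rw [c2]; norm_num) (by rw [hc2])
  obtain ⟨j, hj, hjm⟩ := orb_mod hK2 hF2 hc 11 (by norm_num) (by rw [c2]; norm_num)
  have hle := orb_card_le _ hF2 hc
  have hpos := orb_card_pos (K ⊓ St a ⊓ St b) c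
  have hmul := card_mul (K ⊓ St a ⊓ St b) c
  rw [card_pts, hc2] at hle
  rw [hc2] at hj
  have h22 : (orb (K ⊓ St a ⊓ St b) c).card = 22 := by
    have : j = 0 := by omega
    subst this
    omega
  have c3 : Nat.card ↥(K ⊓ St a ⊓ St b ⊓ St c) = 840 := by
    rw [c2, h22] at hmul; omega
  have hK3 : K ⊓ St a ⊓ St b ⊓ St c ≤ M24 := inf_le_left.trans hK2
  have hF3 := fix_insert c hF2
  have hc3 : (insert c (insert b (insert a (∅ : Finset GolayPt)))).card = 3 := by
    rw [Finset.card_insert_of_notMem hc, hc2]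
  obtain ⟨d, hd, hdm⟩ := exists_pt hK3 hF3 5 (by norm_num) (by rw [c3]; norm_num) (by rw [hc3])
  obtain ⟨j, hj, hjm⟩ := orb_mod hK3 hF3 hd 7 (by norm_num) (by rw [c3]; norm_num)
  have hle := orb_card_le _ hF3 hd
  have hpos := orb_card_pos (K ⊓ St a ⊓ St b ⊓ St c) d
  have hmul := card_mul (K ⊓ St a ⊓ St b ⊓ St c) d
  rw [card_pts, hc3] at hle
  rw [hc3] at hj
  have h21 : (orb (K ⊓ St a ⊓ St b ⊓ St c) d).card = 21 := by
    have : j = 0 := by omega
    subst this
    omega
  have c4 : Nat.card ↥(K ⊓ St a ⊓ St b ⊓ St c ⊓ St d) = 40 := by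
    rw [c3, h21] at hmul; omega
  exact no_order_forty (inf_le_left.trans hK3) (fix_insert d hF3)
    (by rw [Finset.card_insert_of_notMem hd, hc3]) c4

end Cfsg.Agent.Lib.Helper28.OutMath
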