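import Mathlib
import Cfsg.Agent.Lib.Helper28.OutMath

set_option autoImplicit false
open scoped Pointwise
open Cfsg Cfsg.Agent.Lib.Helper3 Cfsg.Agent.Lib.Helper28.OutGen

/-! The binary Golay code is self-dual. -/

namespace Cfsg.Agent.Lib.Helper28.OutMath

/-- even intersection. -/
def ev (s t : Finset GolayPt) : Prop := Even (s ∩ t).card

theorem ev_comm (s t : Finset GolayPt) : ev s t ↔ ev t s := by
  unfold ev; rw [Finset.inter_comm]

theorem ev_symmDiff_left (s t b : Finset GolayPt) : ev (symmDiff s t) b ↔ (ev s b ↔ ev t b) := by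
  unfold ev
  have h1 : symmDiff s t ∩ b = symmDiff (s ∩ b) (t ∩ b) := inf_symmDiff_distrib_right s t b
  have h2 := card_symmDiff_add (s ∩ b) (t ∩ b)
  rw [h1]
  simp only [Nat.even_iff]
  omega

theorem ev_symmDiff_right (v s t : Finset GolayPt) : ev v (symmDiff s t) ↔ (ev v s ↔ ev v t) := by
  rw [ev_comm, ev_symmDiff_left, ev_comm s, ev_comm t]

theorem four_dvd_card {s : Finset GolayPt} (hs : s ∈ CS) : 4 ∣ s.card := by
  rcases code_weights s hs with h | h | h | h | h <;> rw [h] <;> norm_num

theorem ev_code {s t : Finset GolayPt} (hs : s ∈ CS) (ht : t ∈ CS) : ev s t := by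
  obtain ⟨a, ha⟩ := four_dvd_card hs
  obtain ⟨b, hb⟩ := four_dvd_card ht
  obtain ⟨c, hc⟩ := four_dvd_card (supports_symmDiff hs ht)
  have := card_symmDiff_add s t
  unfold ev
  rw [Nat.even_iff]
  omega

theorem ev_empty (v : Finset GolayPt) : ev v ∅ := by
  unfold ev; simp

theorem ev_xorl (v : Finset GolayPt) (l : List ℕ) (h : ∀ m ∈ l, ev v (unmask m)) :
    ev v (unmask (xorl l)) := by
  induction l with
  | nil =>
    have : unmask (xorl []) = ∅ := by ext p; simp [unmask, xorl]
    rw [this]; exact ev_empty v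
  | cons a l ih =>
    have : xorl (a :: l) = a ^^^ xorl l := rfl
    rw [this, unmask_xor, ev_symmDiff_right]
    exact ⟨fun _ => ih fun m hm => h m (by simp [hm]), fun _ => h a (by simp)⟩

theorem basis_lt : ∀ b ∈ basisList, b < 2 ^ 24 := by decide

/-- a word supported on the last twelve coordinates and orthogonal to the basis is zero. -/
def chkDual (h : ℕ) : Bool :=
  h == 0 || !(basisList.all fun b => pc ((h * 4096) &&& b) % 2 == 0)

theorem chkDual_all : allRange chkDual 12 0 = true := by decide +kernel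

theorem mem_CS_of_ev (s : Finset GolayPt) (h : ∀ b ∈ basisList, ev s (unmask b)) : s ∈ CS := by
  have hc : mask s % 4096 < 4096 := Nat.mod_lt _ (by norm_num)
  have hme : mask (unmask (enc (mask s % 4096))) = enc (mask s % 4096) :=
    mask_unmask (enc_lt _ hc)
  have he : unmask (enc (mask s % 4096)) ∈ CS := by
    rw [mem_supports_iff, hme]; exact inC_enc hc
  have h1 : ∀ b ∈ basisList, ev (symmDiff s (unmask (enc (mask s % 4096)))) (unmask b) := by
    intro b hb
    rw [ev_symmDiff_left]
    exact ⟨fun _ => ev_code he (octads_subset (basis_octads b hb)), fun _ => h b hb⟩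
  have h2 : mask (symmDiff s (unmask (enc (mask s % 4096)))) % 4096 = 0 := by
    rw [mask_symmDiff, hme]
    have := Nat.xor_mod_two_pow (a := mask s) (b := enc (mask s % 4096)) (n := 12)
    norm_num at this
    rw [this, enc_mod _ hc, Nat.xor_self]
  have h3 := mask_lt (symmDiff s (unmask (enc (mask s % 4096))))
  obtain ⟨k, hk⟩ : ∃ k, mask (symmDiff s (unmask (enc (mask s % 4096)))) = k * 4096 :=
    ⟨_, (Nat.div_mul_cancel (Nat.dvd_of_mod_eq_zero h2)).symm⟩
  have hk4 : k < 2 ^ 12 := by
    rw [hk] at h3; norm_num at h3 ⊢; omega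
  have h4 := forall_lt_of_allRange chkDual 12 chkDual_all k hk4
  unfold chkDual at h4
  rw [Bool.or_eq_true] at h4
  have h5 : (basisList.all fun b => pc ((k * 4096) &&& b) % 2 == 0) = true := by
    rw [List.all_eq_true]
    intro b hb
    have := h1 b hb
    unfold ev at this
    rw [card_eq_pc, mask_inter, mask_unmask (basis_lt b hb), hk, Nat.even_iff] at this
    simpa using this
  rw [h5] at h4
  have hk0 : k = 0 := by simpa using h4
  rw [hk0, zero_mul, ← mask_empty] at hk
  have h6 := mask_injective hk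
  have h7 : s = unmask (enc (mask s % 4096)) := symmDiff_eq_bot.mp h6
  rw [h7]
  exact he

end Cfsg.Agent.Lib.Helper28.OutMath
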