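import Mathlib
import Cfsg.Agent.Lib.Helper28.OutGen

set_option autoImplicit false
set_option linter.unusedSectionVars false
open scoped Pointwise

/-! More generic tools: faithful actions on invariant sets, outer automorphism group of order 2. -/

namespace Cfsg.Agent.Lib.Helper28.OutGen

variable {Ω : Type*} [DecidableEq Ω] [Fintype Ω]

theorem card_le_factorial (K : Subgroup (Equiv.Perm Ω)) (Y : Finset Ω)
    (hinv : ∀ g ∈ K, ∀ q, g q ∈ Y ↔ q ∈ Y) (hfaith : ∀ g ∈ K, (∀ q ∈ Y, g q = q) → g = 1) :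
    Nat.card K ≤ Y.card.factorial := by
  have hinj : Function.Injective
      (fun g : K => (g.1.subtypePerm (hinv g.1 g.2) : Equiv.Perm Y)) := by
    intro g g' h
    have h1 : ∀ q ∈ Y, g.1 q = g'.1 q := by
      intro q hq
      have h0 := congrArg Subtype.val (DFunLike.congr_fun h (⟨q, hq⟩ : Y))
      exact h0
    have h2 : g'.1⁻¹ * g.1 = 1 := hfaith _ (K.mul_mem (K.inv_mem g'.2) g.2) (fun q hq => by
      show g'.1⁻¹ (g.1 q) = q
      rw [h1 q hq, Equiv.Perm.inv_def, Equiv.symm_apply_apply])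
    exact Subtype.ext (inv_mul_eq_one.1 h2).symm
  calc Nat.card K ≤ Nat.card (Equiv.Perm Y) := Nat.card_le_card_of_injective _ hinj
    _ = Y.card.factorial := by rw [Nat.card_eq_fintype_card, Fintype.card_perm, Fintype.card_coe]

/-- conjugation by a normalising permutation. -/
def conjAut (G : Subgroup (Equiv.Perm Ω)) (n : Equiv.Perm Ω)
    (h1 : ∀ g ∈ G, n * g * n⁻¹ ∈ G) (h2 : ∀ g ∈ G, n⁻¹ * g * n ∈ G) : MulAut G where
  toFun g := ⟨n * g.1 * n⁻¹, h1 g.1 g.2⟩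
  invFun g := ⟨n⁻¹ * g.1 * n, h2 g.1 g.2⟩
  left_inv g := by
    apply Subtype.ext
    show n⁻¹ * (n * g.1 * n⁻¹) * n = g.1
    group
  right_inv g := by
    apply Subtype.ext
    show n * (n⁻¹ * g.1 * n) * n⁻¹ = g.1
    group
  map_mul' g g' := by
    apply Subtype.ext
    show n * (g.1 * g'.1) * n⁻¹ = (n * g.1 * n⁻¹) * (n * g'.1 * n⁻¹)
    group

theorem card_out_eq_two (G N : Subgroup (Equiv.Perm Ω)) (θ : Equiv.Perm Ω) (hGN : G ≤ N)
    (hnorm : ∀ n ∈ N, ∀ g ∈ G, n * g * n⁻¹ ∈ G) (hθN : θ ∈ N) (hθ : θ ∉ G)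
    (hidx : ∀ n ∈ N, n ∉ G → n * θ ∈ G)
    (hsep : ∀ x y : Ω, (∃ g ∈ G, g x ≠ x) → (∀ g ∈ G, g x = x ↔ g y = y) → x = y)
    (hfaith : ∀ c ∈ N, (∀ x, (∃ g ∈ G, g x ≠ x) → c x = x) → c = 1)
    (hsurj : ∀ α : MulAut G, ∃ n ∈ N, ∀ g : G, (α g).1 = n * g.1 * n⁻¹) :
    Nat.card (MulAut G ⧸ (MulAut.conj : G →* MulAut G).range) = 2 := by
  have key : ∀ (γ : MulAut G) (k : Equiv.Perm Ω), k ∈ N → (∀ g : G, (γ g).1 = k * g.1 * k⁻¹) →
      (γ ∈ (MulAut.conj : G →* MulAut G).range ↔ k ∈ G) := by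
    intro γ k hk hγ
    constructor
    · rintro ⟨m, rfl⟩
      have hc : ∀ g ∈ G, (m.1⁻¹ * k) * g = g * (m.1⁻¹ * k) := by
        intro g hg
        have h1 := hγ ⟨g, hg⟩
        have h2 : m.1 * g * m.1⁻¹ = k * g * k⁻¹ := h1
        calc (m.1⁻¹ * k) * g = m.1⁻¹ * (k * g * k⁻¹) * k := by group
          _ = m.1⁻¹ * (m.1 * g * m.1⁻¹) * k := by rw [h2]
          _ = g * (m.1⁻¹ * k) := by group
      have h1 : m.1⁻¹ * k = 1 := by
        apply hfaith _ (N.mul_mem (N.inv_mem (hGN m.2)) hk)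
        intro x hx
        symm
        apply hsep x _ hx
        intro g hg
        have e : g ((m.1⁻¹ * k) x) = (m.1⁻¹ * k) (g x) := by
          have := congrArg (fun f : Equiv.Perm Ω => f x) (hc g hg)
          exact this.symm
        rw [e]
        exact ((m.1⁻¹ * k).injective.eq_iff).symm
      rw [← inv_mul_eq_one.1 h1]
      exact m.2
    · intro hkG
      exact mem_inn_of_conj G γ k hkG hγ
  have hnorm' : ∀ g ∈ G, θ⁻¹ * g * θ ∈ G := by
    intro g hg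
    have := hnorm θ⁻¹ (N.inv_mem hθN) g hg
    rwa [inv_inv] at this
  show Subgroup.index _ = 2
  rw [Subgroup.index_eq_two_iff]
  refine ⟨conjAut G θ (hnorm θ hθN) hnorm', fun b => ?_⟩
  obtain ⟨n, hn, hb⟩ := hsurj b
  have hbθ : ∀ g : G, ((b * conjAut G θ (hnorm θ hθN) hnorm') g).1 = (n * θ) * g.1 * (n * θ)⁻¹ := by
    intro g
    show (b (conjAut G θ (hnorm θ hθN) hnorm' g)).1 = _
    rw [hb]
    show n * (θ * g.1 * θ⁻¹) * n⁻¹ = _
    group
  rw [key b n hn hb, key _ (n * θ) (N.mul_mem hn hθN) hbθ]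
  by_cases hnG : n ∈ G
  · right
    refine ⟨hnG, fun h => hθ ?_⟩
    have := G.mul_mem (G.inv_mem hnG) h
    rwa [inv_mul_cancel_left] at this
  · left
    exact ⟨hidx n hn hnG, hnG⟩

end Cfsg.Agent.Lib.Helper28.OutGen
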