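import Mathlib
import Cfsg.Agent.Lib.Helper28.OutMath
import Cfsg.Agent.Lib.Helper28.OutGen2

set_option autoImplicit false
open scoped Pointwise
open Cfsg Cfsg.Agent.Lib.Helper3 Cfsg.Agent.Lib.Helper28.OutGen

/-! Subgroups of the stabiliser of a dodecad: orbit sizes and fixed points. -/

namespace Cfsg.Agent.Lib.Helper28.OutMath

theorem smul_compl' (g : Equiv.Perm GolayPt) (x : Finset GolayPt) : g • xᶜ = (g • x)ᶜ := by
  ext p
  rw [Finset.mem_compl, ← Finset.inv_smul_mem_iff, ← Finset.inv_smul_mem_iff, Finset.mem_compl]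

theorem compl_dod {x : Finset GolayPt} (hx : x ∈ dodecads) : xᶜ ∈ dodecads := by
  rw [mem_dodecads_iff] at *
  have h1 : InC 0xFFFFFF := by decide +kernel
  rw [mask_compl]
  refine ⟨inC_xor hx.1 h1, ?_⟩
  rw [← mask_compl, ← card_eq_pc, Finset.card_compl, card_eq_pc, hx.2]
  rfl

theorem fix5_eq_one {d : Finset GolayPt} (hd : d ∈ dodecads) {g : Equiv.Perm GolayPt}
    (hg : g ∈ M24) (hgd : g • d = d) {s : Finset GolayPt} (hs : 5 ≤ s.card) (hsd : s ⊆ d)
    (hfix : ∀ p ∈ s, g p = p) : g = 1 := by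
  obtain ⟨A, hAs, hA⟩ := Finset.exists_subset_card_eq hs
  let e := (A.equivFinOfCardEq hA).symm
  let x : Fin 5 ↪ GolayPt := ⟨fun i => (e i : GolayPt), fun i j h => e.injective (Subtype.ext h)⟩
  obtain ⟨g0, -, huniq⟩ := sharp5 hd x x (fun i => hsd (hAs (e i).2)) (fun i => hsd (hAs (e i).2))
  have h1 := huniq g ⟨hg, hgd, fun i => hfix _ (hAs (e i).2)⟩
  have h2 := huniq 1 ⟨M24.one_mem, one_smul _ _, fun i => rfl⟩
  rw [h1, h2]

/-- the fixed points inside a set. -/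
def Fd (x : Equiv.Perm GolayPt) (d : Finset GolayPt) : Finset GolayPt := d.filter fun q => x q = q

theorem mem_Fd {x : Equiv.Perm GolayPt} {d : Finset GolayPt} {q : GolayPt} :
    q ∈ Fd x d ↔ q ∈ d ∧ x q = q := Finset.mem_filter

theorem inv_of_smul {g : Equiv.Perm GolayPt} {d : Finset GolayPt} (h : g • d = d) (q : GolayPt) :
    g q ∈ d ↔ q ∈ d := by
  conv_lhs => rw [← h]
  exact Finset.smul_mem_smul_finset_iff g

theorem card_Fd_mod {x : Equiv.Perm GolayPt} {d : Finset GolayPt} (hd : d ∈ dodecads)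
    (hxd : x • d = d) (p : ℕ) [Fact p.Prime] (hxp : x ^ p = 1) : (Fd x d).card % p = 12 % p := by
  have := card_modEq_fix x p hxp d (inv_of_smul hxd)
  rw [hd.2] at this
  exact this

theorem card_Fd_le {x : Equiv.Perm GolayPt} {d : Finset GolayPt} (hd : d ∈ dodecads)
    (hx : x ∈ M24) (hxd : x • d = d) (h1 : x ≠ 1) : (Fd x d).card ≤ 4 := by
  by_contra h
  exact h1 (fix5_eq_one hd hx hxd (s := Fd x d) (by omega) (Finset.filter_subset _ _)
    (fun p hp => (mem_Fd.1 hp).2))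

theorem orb_subset_d {K : Subgroup (Equiv.Perm GolayPt)} {d : Finset GolayPt} {c : GolayPt}
    (hKd : ∀ g ∈ K, g • d = d) (hc : c ∈ d) : orb K c ⊆ d := by
  intro q hq
  obtain ⟨g, hg, rfl⟩ := mem_orb.1 hq
  exact (inv_of_smul (hKd g hg) c).2 hc

theorem orb_card_le_d {K : Subgroup (Equiv.Perm GolayPt)} {d : Finset GolayPt}
    (hd : d ∈ dodecads) (hKd : ∀ g ∈ K, g • d = d) {F : Finset GolayPt} (hFd : F ⊆ d)
    (hF : ∀ q ∈ F, ∀ g ∈ K, g q = q) {c : GolayPt} (hcd : c ∈ d) (hc : c ∉ F) :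
    (orb K c).card + F.card ≤ 12 := by
  rw [← hd.2, ← Finset.card_union_of_disjoint]
  · exact Finset.card_le_card (Finset.union_subset (orb_subset_d hKd hcd) hFd)
  · rw [Finset.disjoint_left]
    intro q hq hqF
    exact not_mem_orb (hF q hqF) (fun h => hc (by rw [← h]; exact hqF)) hq

theorem orb_mod_d {K : Subgroup (Equiv.Perm GolayPt)} (hK : K ≤ M24) {d : Finset GolayPt}
    (hd : d ∈ dodecads) (hKd : ∀ g ∈ K, g • d = d) {F : Finset GolayPt} (hFd : F ⊆ d)
    (hF : ∀ q ∈ F, ∀ g ∈ K, g q = q) {c : GolayPt} (hcd : c ∈ d) (hc : c ∉ F) (p : ℕ)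
    [Fact p.Prime] (hdvd : p ∣ Nat.card K) :
    ∃ j f, f % p = 12 % p ∧ f ≤ 4 ∧ j + F.card ≤ f ∧ (orb K c).card % p = j % p := by
  obtain ⟨x, hx, ho⟩ := exists_order K p hdvd
  refine ⟨((orb K c).filter fun q => x q = q).card, (Fd x d).card,
    card_Fd_mod hd (hKd x hx) p (pow_of_order ho),
    card_Fd_le hd (hK hx) (hKd x hx) (ne_one_of_order ho), ?_,
    (card_modEq_fix x p (pow_of_order ho) (orb K c) (orb_inv hx)).symm⟩
  rw [← Finset.card_union_of_disjoint]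
  · apply Finset.card_le_card
    intro q hq
    rcases Finset.mem_union.1 hq with hq | hq
    · rw [Finset.mem_filter] at hq
      exact mem_Fd.2 ⟨orb_subset_d hKd hcd hq.1, hq.2⟩
    · exact mem_Fd.2 ⟨hFd hq, hF q hq x hx⟩
  · rw [Finset.disjoint_left]
    intro q hq hqF
    exact not_mem_orb (hF q hqF) (fun h => hc (by rw [← h]; exact hqF)) (Finset.mem_filter.1 hq).1

theorem exists_pt_d {K : Subgroup (Equiv.Perm GolayPt)} (hK : K ≤ M24) {d : Finset GolayPt}
    (hd : d ∈ dodecads) (hKd : ∀ g ∈ K, g • d = d) {F : Finset GolayPt} (hFd : F ⊆ d)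
    (hF : ∀ q ∈ F, ∀ g ∈ K, g q = q) (p : ℕ) [Fact p.Prime] (hdvd : p ∣ Nat.card K)
    (harith : ∀ f, f % p = 12 % p → f ≤ 4 → F.card ≤ f → f = F.card + 1) :
    ∃ c ∈ d, c ∉ F ∧ (orb K c).card % p = 1 % p := by
  obtain ⟨x, hx, ho⟩ := exists_order K p hdvd
  have hsub : F ⊆ Fd x d := fun q hq => mem_Fd.2 ⟨hFd hq, hF q hq x hx⟩
  have h1 := harith _ (card_Fd_mod hd (hKd x hx) p (pow_of_order ho))
    (card_Fd_le hd (hK hx) (hKd x hx) (ne_one_of_order ho)) (Finset.card_le_card hsub)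
  have h2 : (Fd x d \ F).card = 1 := by
    rw [Finset.card_sdiff_of_subset hsub]; omega
  obtain ⟨c, hc'⟩ := Finset.card_eq_one.1 h2
  have hcm : c ∈ Fd x d \ F := by rw [hc']; exact Finset.mem_singleton_self c
  rw [Finset.mem_sdiff, mem_Fd] at hcm
  refine ⟨c, hcm.1.1, hcm.2, ?_⟩
  have h3 := card_modEq_fix x p (pow_of_order ho) (orb K c) (orb_inv hx)
  have h4 : ((orb K c).filter fun q => x q = q) = {c} := by
    ext q
    rw [Finset.mem_filter, Finset.mem_singleton]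
    constructor
    · rintro ⟨hq, hxq⟩
      by_contra hne
      have hqF : q ∈ F := by
        by_contra hqF
        have : q ∈ Fd x d \ F :=
          Finset.mem_sdiff.2 ⟨mem_Fd.2 ⟨orb_subset_d hKd hcm.1.1 hq, hxq⟩, hqF⟩
        rw [hc', Finset.mem_singleton] at this
        exact hne this
      exact not_mem_orb (hF q hqF) hne hq
    · rintro rfl
      exact ⟨self_mem_orb K q, hcm.1.2⟩
  rw [h4, Finset.card_singleton] at h3
  exact h3.symm

theorem orb_eq_of_mem {K : Subgroup (Equiv.Perm GolayPt)} {c u : GolayPt} (h : u ∈ orb K c) :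
    orb K u = orb K c := by
  obtain ⟨g, hg, rfl⟩ := mem_orb.1 h
  ext q
  rw [mem_orb, mem_orb]
  constructor
  · rintro ⟨k, hk, rfl⟩
    exact ⟨k * g, K.mul_mem hk hg, rfl⟩
  · rintro ⟨k, hk, rfl⟩
    refine ⟨k * g⁻¹, K.mul_mem hk (K.inv_mem hg), ?_⟩
    show k (g⁻¹ (g c)) = k c
    rw [Equiv.Perm.inv_def, Equiv.symm_apply_apply]

theorem exists_not_mem_d {d : Finset GolayPt} (hd : d ∈ dodecads) (F : Finset GolayPt)
    (h : F.card < 12) : ∃ b ∈ d, b ∉ F := by
  by_contra hc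
  push Not at hc
  have : d.card ≤ F.card := Finset.card_le_card hc
  rw [hd.2] at this
  omega

theorem stab_compl {K : Subgroup (Equiv.Perm GolayPt)} {d : Finset GolayPt}
    (hKd : ∀ g ∈ K, g • d = d) : ∀ g ∈ K, g • dᶜ = dᶜ := by
  intro g hg
  rw [smul_compl', hKd g hg]

/-- a subgroup of order 660 fixing a point of the dodecad: two more points with stabiliser of
order six. -/
theorem lemC {J : Subgroup (Equiv.Perm GolayPt)} (hJ : J ≤ M24) {d : Finset GolayPt}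
    (hd : d ∈ dodecads) (hJd : ∀ g ∈ J, g • d = d) {a : GolayPt} (had : a ∈ d)
    (ha : ∀ g ∈ J, g a = a) (hcard : Nat.card J = 660) :
    ∃ b c, b ∈ d ∧ c ∈ d ∧ b ≠ a ∧ c ≠ a ∧ c ≠ b ∧ Nat.card ↥(J ⊓ St b ⊓ St c) = 6 := by
  have : Fact (Nat.Prime 11) := ⟨by norm_num⟩
  have : Fact (Nat.Prime 5) := ⟨by norm_num⟩
  have : Fact (Nat.Prime 3) := ⟨by norm_num⟩
  have hF1 : ∀ q ∈ ({a} : Finset GolayPt), ∀ g ∈ J, g q = q := by
    intro q hq g hg
    rw [Finset.mem_singleton] at hq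
    rw [hq]; exact ha g hg
  have hF1d : ({a} : Finset GolayPt) ⊆ d := Finset.singleton_subset_iff.2 had
  obtain ⟨b, hbd, hb⟩ := exists_not_mem_d hd {a} (by simp)
  obtain ⟨j, f, hf1, hf2, hj, hjm⟩ := orb_mod_d hJ hd hJd hF1d hF1 hbd hb 11
    (by rw [hcard]; norm_num)
  have hle := orb_card_le_d hd hJd hF1d hF1 hbd hb
  have hpos := orb_card_pos J b
  have hmul := card_mul J b
  rw [Finset.card_singleton] at hle hj
  have h11 : (orb J b).card = 11 := by omega
  have c1 : Nat.card ↥(J ⊓ St b) = 60 := by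
    rw [hcard, h11] at hmul; omega
  have hJ1 : J ⊓ St b ≤ M24 := inf_le_left.trans hJ
  have hJ1d : ∀ g ∈ J ⊓ St b, g • d = d := fun g hg => hJd g hg.1
  have hF2 := fix_insert b hF1
  have hF2d : insert b ({a} : Finset GolayPt) ⊆ d := Finset.insert_subset hbd hF1d
  have hc2 : (insert b ({a} : Finset GolayPt)).card = 2 := by
    rw [Finset.card_insert_of_notMem hb, Finset.card_singleton]
  obtain ⟨c, hcd, hc, hcm⟩ := exists_pt_d hJ1 hd hJ1d hF2d hF2 3 (by rw [c1]; norm_num) (by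
    intro f h1 h2 h3
    rw [hc2] at h3 ⊢
    omega)
  obtain ⟨j, f, hf1, hf2, hj, hjm⟩ := orb_mod_d hJ1 hd hJ1d hF2d hF2 hcd hc 5
    (by rw [c1]; norm_num)
  have hle := orb_card_le_d hd hJ1d hF2d hF2 hcd hc
  have hpos := orb_card_pos (J ⊓ St b) c
  have hmul := card_mul (J ⊓ St b) c
  rw [hc2] at hle hj
  have h10 : (orb (J ⊓ St b) c).card = 10 := by omega
  have c2 : Nat.card ↥(J ⊓ St b ⊓ St c) = 6 := by
    rw [c1, h10] at hmul; omega
  rw [Finset.mem_insert, Finset.mem_singleton, not_or] at hc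
  rw [Finset.mem_singleton] at hb
  exact ⟨b, c, hbd, hcd, hb, hc.2, hc.1, c2⟩

/-- an involution of the stabiliser of a dodecad with a fixed point fixes a point outside. -/
theorem invol_fix_compl {t : Equiv.Perm GolayPt} (ht : t ∈ M24) {d : Finset GolayPt}
    (hd : d ∈ dodecads) (htd : t • d = d) (ht2 : orderOf t = 2) {a : GolayPt} (ha : t a = a) :
    ∃ u, u ∉ d ∧ t u = u := by
  have : Fact (Nat.Prime 2) := ⟨by norm_num⟩
  have h8 : (Fx t).card = 8 := (Fx_invol ht ht2 ha).2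
  have h4 := card_Fd_le hd ht htd (ne_one_of_order ht2)
  by_contra hc
  push Not at hc
  have : Fx t ⊆ Fd t d := by
    intro q hq
    rw [mem_Fx] at hq
    refine mem_Fd.2 ⟨?_, hq⟩
    by_contra hqd
    exact hc q hqd hq
  have := Finset.card_le_card this
  omega

/-- a subgroup of order 660 fixing a point of the dodecad fixes a point outside it. -/
theorem lemB {J : Subgroup (Equiv.Perm GolayPt)} (hJ : J ≤ M24) {d : Finset GolayPt}
    (hd : d ∈ dodecads) (hJd : ∀ g ∈ J, g • d = d) {a : GolayPt} (had : a ∈ d)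
    (ha : ∀ g ∈ J, g a = a) (hcard : Nat.card J = 660) :
    ∃ a', a' ∉ d ∧ ∀ g ∈ J, g a' = a' := by
  have : Fact (Nat.Prime 11) := ⟨by norm_num⟩
  have : Fact (Nat.Prime 2) := ⟨by norm_num⟩
  have hd' := compl_dod hd
  have hJd' := stab_compl hJd
  have hF0 : ∀ q ∈ (∅ : Finset GolayPt), ∀ g ∈ J, g q = q := by simp
  obtain ⟨a', ha'd, -, ha'm⟩ := exists_pt_d hJ hd' hJd' (Finset.empty_subset _) hF0 11
    (by rw [hcard]; norm_num) (by
      intro f h1 h2 _
      rw [Finset.card_empty]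
      omega)
  have hle := orb_card_le_d hd' hJd' (Finset.empty_subset _) hF0 ha'd (by simp)
  have hpos := orb_card_pos J a'
  rw [Finset.card_empty] at hle
  rcases (show (orb J a').card = 1 ∨ (orb J a').card = 12 by omega) with h1 | h12
  · exact ⟨a', Finset.mem_compl.1 ha'd, fix_of_orb_card_one h1⟩
  exfalso
  have horb : orb J a' = dᶜ :=
    Finset.eq_of_subset_of_card_le (orb_subset_d hJd' ha'd) (by rw [hd'.2, h12])
  obtain ⟨b, c, -, -, -, -, -, c6⟩ := lemC hJ hd hJd had ha hcard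
  obtain ⟨t, ht, ht2⟩ := exists_order (J ⊓ St b ⊓ St c) 2 (by rw [c6]; norm_num)
  obtain ⟨u, hud, htu⟩ := invol_fix_compl (hJ ht.1.1) hd (hJd t ht.1.1) ht2 (ha t ht.1.1)
  have hu : u ∈ orb J a' := by rw [horb]; exact Finset.mem_compl.2 hud
  have hmul := card_mul J u
  rw [orb_eq_of_mem hu, h12, hcard] at hmul
  have c55 : Nat.card ↥(J ⊓ St u) = 55 := by omega
  have hdvd : orderOf (⟨t, ⟨ht.1.1, htu⟩⟩ : ↥(J ⊓ St u)) ∣ 55 := by
    rw [← c55]; exact orderOf_dvd_natCard _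
  rw [← Subgroup.orderOf_coe] at hdvd
  have : orderOf t ∣ 55 := hdvd
  rw [ht2] at this
  omega

end Cfsg.Agent.Lib.Helper28.OutMath
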