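import Mathlib
import Cfsg.Prelude.Def_Spor_Mathieu
import Cfsg.Agent.Lib.Helper28.OutM12

set_option autoImplicit false
open scoped Pointwise
open Cfsg Cfsg.Agent.Lib.Helper3 Cfsg.Agent.Lib.Helper28.OutGen

/-! The stabiliser of the standard dodecad and of one of its points. -/

namespace Cfsg.Agent.Lib.Helper28.OutMath

theorem sq_eq_D0 : Spor.squareDodecad = D0 := by
  apply mask_injective
  rw [Spor.squareDodecad, mask_support₂, D0, mask_unmask (by norm_num)]
  decide +kernel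

/-- the stabiliser of the standard dodecad. -/
def G12 : Subgroup (Equiv.Perm GolayPt) := M24 ⊓ MulAction.stabilizer (Equiv.Perm GolayPt) D0

/-- the stabiliser of the standard dodecad and of its first point. -/
def G11 : Subgroup (Equiv.Perm GolayPt) := G12 ⊓ St (some 0)

theorem M12_eq : Spor.M12 = G12 := by
  unfold Spor.M12 G12; rw [sq_eq_D0]

theorem M11_eq : Spor.M11 = G11 := by
  unfold Spor.M11 G11; rw [M12_eq]

theorem G12_le : G12 ≤ M24 := inf_le_left

theorem G12_D0 : ∀ g ∈ G12, g • D0 = D0 := fun _ hg => hg.2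

theorem G11_le : G11 ≤ M24 := inf_le_left.trans G12_le

theorem G11_D0 : ∀ g ∈ G11, g • D0 = D0 := fun _ hg => hg.1.2

theorem zero_mem_D0 : (some 0 : GolayPt) ∈ D0 := by
  rw [D0, mem_unmask]; decide +kernel

theorem card_G12 : Nat.card G12 = 95040 := card_L0

theorem smul_D0_of_compl {g : Equiv.Perm GolayPt} (h : g • D0ᶜ = D0ᶜ) : g • D0 = D0 := by
  rw [smul_compl'] at h
  exact compl_injective h

theorem G12_trans_in {p q : GolayPt} (hp : p ∈ D0) (hq : q ∈ D0) : ∃ g ∈ G12, g p = q := by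
  obtain ⟨g, hg, hgd, h⟩ := trans_in_dodecad D0_mem hp hq
  exact ⟨g, ⟨hg, hgd⟩, h⟩

theorem G12_trans_out {p q : GolayPt} (hp : p ∉ D0) (hq : q ∉ D0) : ∃ g ∈ G12, g p = q := by
  obtain ⟨g, hg, hgd, h⟩ := trans_in_dodecad (compl_dod D0_mem) (Finset.mem_compl.2 hp)
    (Finset.mem_compl.2 hq)
  exact ⟨g, ⟨hg, smul_D0_of_compl hgd⟩, h⟩

theorem card_G12_St (y : GolayPt) : Nat.card ↥(G12 ⊓ St y) = 7920 := by
  have hmul := card_mul G12 y
  have h12 : (orb G12 y).card = 12 := by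
    by_cases hy : y ∈ D0
    · have : orb G12 y = D0 := by
        apply Finset.Subset.antisymm (orb_subset_d G12_D0 hy)
        intro q hq
        exact mem_orb.2 (G12_trans_in hy hq)
      rw [this]; exact D0_mem.2
    · have : orb G12 y = D0ᶜ := by
        apply Finset.Subset.antisymm (orb_subset_d (stab_compl G12_D0) (Finset.mem_compl.2 hy))
        intro q hq
        exact mem_orb.2 (G12_trans_out hy (Finset.mem_compl.1 hq))
      rw [this]; exact (compl_dod D0_mem).2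
  rw [card_G12, h12] at hmul
  omega

theorem card_G11 : Nat.card G11 = 7920 := card_G12_St (some 0)

theorem G11_zero : ∀ q ∈ ({some 0} : Finset GolayPt), ∀ g ∈ G11, g q = q := by
  intro q hq g hg
  rw [Finset.mem_singleton] at hq
  rw [hq]; exact hg.2

theorem card_G11_St_in {y : GolayPt} (hy : y ∈ D0) (hy0 : y ≠ some 0) :
    Nat.card ↥(G11 ⊓ St y) = 720 := by
  have hmul := card_mul G11 y
  have h11 : (orb G11 y).card = 11 := by
    have : orb G11 y = D0 \ {some 0} := by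
      ext q
      rw [Finset.mem_sdiff, Finset.mem_singleton]
      constructor
      · intro hq
        refine ⟨orb_subset_d G11_D0 hy hq, fun h0 => ?_⟩
        exact not_mem_orb (K := G11) (fun g hg => hg.2) (Ne.symm hy0) (h0 ▸ hq)
      · rintro ⟨hq, hq0⟩
        obtain ⟨g, hg, hgd, hh⟩ := M12_lists D0_mem [some 0, y] [some 0, q]
          (by simp [Ne.symm hy0]) (by simp [Ne.symm hq0]) (by simp [zero_mem_D0, hy])
          (by simp [zero_mem_D0, hq]) rfl (by simp)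
        exact mem_orb.2 ⟨g, ⟨⟨hg, hgd⟩, hh 0 (by simp)⟩, hh 1 (by simp)⟩
    rw [this, Finset.card_sdiff_of_subset (Finset.singleton_subset_iff.2 zero_mem_D0), D0_mem.2,
      Finset.card_singleton]
  rw [card_G11, h11] at hmul
  omega

theorem mem_G11_of_StabM {σ : Equiv.Perm GolayPt} (h : σ ∈ StabM [0x5335f, 1]) : σ ∈ G11 := by
  rw [mem_StabM] at h
  exact ⟨⟨h.1, h.2 _ (by simp)⟩, fix_of_smul (i := 0) (by norm_num) (by norm_num) (h.2 1 (by simp))⟩

theorem G11_three {x y w : GolayPt} (hx : x ∉ D0) (hy : y ∉ D0) (hw : w ∉ D0) (hxy : x ≠ y)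
    (hxw : x ≠ w) (hyw : y ≠ w) :
    ∃ σ ∈ G11, σ x = pt 5 ∧ σ y = pt 7 ∧ σ w = pt 10 := by
  obtain ⟨σ, hσ, h⟩ := M11_three ⟨![x, y, w], by
    intro i j h
    fin_cases i <;> fin_cases j <;> simp_all⟩ (by
    intro i
    fin_cases i
    · exact hx
    · exact hy
    · exact hw)
  exact ⟨σ, mem_G11_of_StabM hσ, h⟩

/-- two-fold transitivity outside the dodecad. -/
theorem G11_two {x y w : GolayPt} (hx : x ∉ D0) (hy : y ∉ D0) (hw : w ∉ D0) (hxy : x ≠ y)
    (hxw : x ≠ w) (hyw : y ≠ w) : ∃ σ ∈ G11, σ x = x ∧ σ y = w := by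
  obtain ⟨σ, hσ, h1, h2, -⟩ := G11_three hx hy hw hxy hxw hyw
  obtain ⟨τ, hτ, k1, k2, -⟩ := G11_three hx hw hy hxw hxy hyw.symm
  refine ⟨τ⁻¹ * σ, G11.mul_mem (G11.inv_mem hτ) hσ, ?_, ?_⟩
  · show τ⁻¹ (σ x) = x
    rw [h1, ← k1, Equiv.Perm.inv_def, Equiv.symm_apply_apply]
  · show τ⁻¹ (σ y) = w
    rw [h2, ← k2, Equiv.Perm.inv_def, Equiv.symm_apply_apply]

theorem G11_trans_out {y q : GolayPt} (hy : y ∉ D0) (hq : q ∉ D0) : ∃ σ ∈ G11, σ y = q := by
  by_cases hyq : y = q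
  · exact ⟨1, G11.one_mem, hyq⟩
  obtain ⟨x, hx, hx'⟩ := exists_not_mem_d (compl_dod D0_mem) {y, q} (by
    have := Finset.card_le_two (a := y) (b := q); omega)
  rw [Finset.mem_insert, Finset.mem_singleton, not_or] at hx'
  obtain ⟨σ, hσ, -, h⟩ := G11_two (Finset.mem_compl.1 hx) hy hq hx'.1 hx'.2 hyq
  exact ⟨σ, hσ, h⟩

theorem card_G11_St_out {y : GolayPt} (hy : y ∉ D0) : Nat.card ↥(G11 ⊓ St y) = 660 := by
  have hmul := card_mul G11 y
  have h12 : (orb G11 y).card = 12 := by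
    have : orb G11 y = D0ᶜ := by
      apply Finset.Subset.antisymm (orb_subset_d (stab_compl G11_D0) (Finset.mem_compl.2 hy))
      intro q hq
      exact mem_orb.2 (G11_trans_out hy (Finset.mem_compl.1 hq))
    rw [this]; exact (compl_dod D0_mem).2
  rw [card_G11, h12] at hmul
  omega

/-- octads meeting the dodecad in four points are fixed point sets of involutions. -/
theorem exists_invol_D0 {o : Finset GolayPt} (ho : o ∈ octads) (h4 : (o ∩ D0).card = 4) :
    ∃ t ∈ G12, orderOf t = 2 ∧ Fx t = o := by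
  have : Fact (Nat.Prime 2) := ⟨by norm_num⟩
  obtain ⟨u, hu, hud, hl⟩ := dodecad_to_D0_list D0_mem (o ∩ D0).toList (Finset.nodup_toList _)
    (fun p hp => (Finset.mem_inter.1 (Finset.mem_toList.1 hp)).2)
    (by rw [Finset.length_toList, h4]; norm_num)
  obtain ⟨t0, ht0, ht02⟩ := exists_order (L 4) 2 (by rw [card_L_values.2.2.2.1]; norm_num)
  rw [mem_L] at ht0
  have htM : u⁻¹ * t0 * u⁻¹⁻¹ ∈ G12 := by
    refine ⟨M24.mul_mem (M24.mul_mem (M24.inv_mem hu) ht0.1) (M24.inv_mem (M24.inv_mem hu)), ?_⟩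
    show (u⁻¹ * t0 * u⁻¹⁻¹) • D0 = D0
    rw [inv_inv, mul_smul, mul_smul, hud, ht0.2.2, ← hud, inv_smul_smul, hud]
  have ht2 : orderOf (u⁻¹ * t0 * u⁻¹⁻¹) = 2 := by rw [order_conj, ht02]
  have hfix : ∀ p ∈ o ∩ D0, (u⁻¹ * t0 * u⁻¹⁻¹) p = p := by
    intro p hp
    obtain ⟨j, hj, rfl⟩ := List.mem_iff_getElem.1 (Finset.mem_toList.2 hp)
    have hj4 : j < 4 := by rwa [Finset.length_toList, h4] at hj
    show u⁻¹ (t0 (u⁻¹⁻¹ _)) = _
    rw [inv_inv, hl j hj, ht0.2.1 j hj4, ← hl j hj, Equiv.Perm.inv_def, Equiv.symm_apply_apply]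
  obtain ⟨p0, hp0⟩ : (o ∩ D0).Nonempty := by rw [← Finset.card_pos, h4]; norm_num
  have hoct := Fx_invol htM.1 ht2 (hfix p0 hp0)
  refine ⟨_, htM, ht2, ?_⟩
  set o' := Fx (u⁻¹ * t0 * u⁻¹⁻¹) with ho'
  have hsub : o ∩ D0 ⊆ Fd (u⁻¹ * t0 * u⁻¹⁻¹) D0 := fun p hp =>
    mem_Fd.2 ⟨(Finset.mem_inter.1 hp).2, hfix p hp⟩
  have hFd : Fd (u⁻¹ * t0 * u⁻¹⁻¹) D0 = o ∩ D0 := by
    symm
    apply Finset.eq_of_subset_of_card_le hsub
    rw [h4]
    exact card_Fd_le D0_mem htM.1 htM.2 (ne_one_of_order ht2)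
  have hint : o' ∩ D0 = o ∩ D0 := by
    rw [← hFd]
    ext q
    rw [Finset.mem_inter, mem_Fd, ho', mem_Fx, and_comm]
  by_contra hne
  have hw := code_weights _ (supports_symmDiff hoct.1 ho.1)
  have hc := card_symmDiff_add o' o
  have e1 : o'.card = 8 := hoct.2
  have e2 : o.card = 8 := ho.2
  have h5 : 4 ≤ (o' ∩ o).card := by
    rw [← h4]
    apply Finset.card_le_card
    intro q hq
    refine Finset.mem_inter.2 ⟨?_, (Finset.mem_inter.1 hq).1⟩
    rw [← hint] at hq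
    exact (Finset.mem_inter.1 hq).1
  have h0 : (symmDiff o' o).card ≠ 0 := by
    rw [Ne, Finset.card_eq_zero]
    exact fun h => hne (symmDiff_eq_bot.mp h)
  have h8 : (symmDiff o' o).card = 8 := by omega
  have hso : symmDiff o' o ∈ octads := ⟨supports_symmDiff hoct.1 ho.1, h8⟩
  have hemp : symmDiff o' o ∩ D0 = ∅ := by
    have : symmDiff o' o ∩ D0 = symmDiff (o' ∩ D0) (o ∩ D0) := inf_symmDiff_distrib_right o' o D0
    rw [this, hint, symmDiff_self]
    rfl
  have := octad_inter_dodecad hso D0_mem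
  rw [hemp, Finset.card_empty] at this
  omega

end Cfsg.Agent.Lib.Helper28.OutMath
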