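import Mathlib
import Cfsg.Agent.Lib.Helper28.OutM12b

set_option autoImplicit false
open scoped Pointwise
open Cfsg Cfsg.Agent.Lib.Helper3 Cfsg.Agent.Lib.Helper28.OutGen

/-! Normalisers of the small Mathieu groups in the symmetric group lie in the large one. -/

namespace Cfsg.Agent.Lib.Helper28.OutMath

/-- the basis of the code in terms of octads through the first point meeting the dodecad in four
points. -/
def cert11 : List (List ℕ) :=
  [[0xc75001],
    [0xc75001, 0x8ea003],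
    [0xc75001, 0x13e005],
    [0xc75001, 0xa96009],
    [0xc75001, 0x5c6011],
    [0xc75001, 0x713021],
    [0xc75001, 0x2b9041],
    [0x8ea003, 0x907083],
    [0x8ea003, 0xb30103],
    [0xc75001, 0xbc1201],
    [0x13e005, 0xa23405],
    [0xc75001, 0x24f801]]

/-- the allowed octads. -/
def Q11 (m : ℕ) : Bool := isOct m && pc (m &&& 0x5335f) == 4 && m.testBit 0

theorem mem_M24_of_G11 (P : Equiv.Perm GolayPt) (h : ∀ t ∈ G11, P * t * P⁻¹ ∈ M24) : P ∈ M24 := by
  apply mem_M24_of_cert P Q11 _ cert11 (by decide +kernel) (by decide +kernel)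
  intro m hm
  unfold Q11 at hm
  rw [Bool.and_eq_true, Bool.and_eq_true, beq_iff_eq] at hm
  obtain ⟨ho, hlt⟩ := unmask_mem_octads hm.1.1
  have h4 : (unmask m ∩ D0).card = 4 := by
    rw [card_eq_pc, mask_inter, mask_unmask hlt, D0, mask_unmask (by norm_num)]
    exact hm.1.2
  obtain ⟨t, ht, ht2, hFx⟩ := exists_invol_D0 ho h4
  have ht0 : t (some 0) = some 0 := by
    rw [← mem_Fx, hFx, mem_unmask]
    exact hm.2
  exact octads_subset (smul_octad_of_conj ht2 ho hFx (h t ⟨ht, ht0⟩))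

/-- the image of the dodecad under a normalising permutation is invariant. -/
theorem smul_smul_D0 {G : Subgroup (Equiv.Perm GolayPt)} (hG : ∀ g ∈ G, g • D0 = D0)
    (α : MulAut G) {P : Equiv.Perm GolayPt} (hP : ∀ g : G, (α g).1 = P * g.1 * P⁻¹) :
    ∀ g ∈ G, g • (P • D0) = P • D0 := by
  intro g hg
  have h1 := hP (α.symm ⟨g, hg⟩)
  rw [MulEquiv.apply_symm_apply] at h1
  have h2 : g = P * (α.symm ⟨g, hg⟩).1 * P⁻¹ := h1
  calc g • (P • D0) = (P * (α.symm ⟨g, hg⟩).1 * P⁻¹) • (P • D0) := by rw [← h2]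
    _ = P • D0 := by
      rw [mul_smul, mul_smul, inv_smul_smul, hG _ (α.symm ⟨g, hg⟩).2]

theorem G12_mixed {x y : GolayPt} (hx : x ∈ D0) (hy : y ∉ D0) : ∃ g ∈ G12, g x = x ∧ g y ≠ y := by
  obtain ⟨u, hu, hux⟩ := G12_trans_in hx zero_mem_D0
  have huy : u y ∉ D0 := fun hc => hy ((inv_of_smul hu.2 y).1 hc)
  obtain ⟨q, hq, hq'⟩ := exists_not_mem_d (compl_dod D0_mem) {u y} (by simp)
  rw [Finset.mem_singleton] at hq'
  obtain ⟨σ, hσ, hσy⟩ := G11_trans_out huy (Finset.mem_compl.1 hq)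
  refine ⟨u⁻¹ * σ * u, G12.mul_mem (G12.mul_mem (G12.inv_mem hu) hσ.1) hu, ?_, ?_⟩
  · show u⁻¹ (σ (u x)) = x
    have : σ (some 0) = some 0 := hσ.2
    rw [hux, this, ← hux, Equiv.Perm.inv_def, Equiv.symm_apply_apply]
  · show u⁻¹ (σ (u y)) ≠ y
    rw [hσy, Ne, Equiv.Perm.inv_eq_iff_eq]
    exact hq'

theorem sep12 (x y : GolayPt) (_hx : ∃ g ∈ G12, g x ≠ x)
    (h : ∀ g ∈ G12, g x = x ↔ g y = y) : x = y := by
  by_contra hne
  by_cases hxd : x ∈ D0 <;> by_cases hyd : y ∈ D0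
  · obtain ⟨z, hz, hz'⟩ := exists_not_mem_d D0_mem {x, y} (by
      have := Finset.card_le_two (a := x) (b := y); omega)
    rw [Finset.mem_insert, Finset.mem_singleton, not_or] at hz'
    obtain ⟨g, hg, hgd, hh⟩ := M12_lists D0_mem [x, y] [x, z] (by simp [hne])
      (by simp [Ne.symm hz'.1]) (by simp [hxd, hyd]) (by simp [hxd, hz]) rfl (by simp)
    have h0 : g x = x := hh 0 (by simp)
    have h1 : g y = z := hh 1 (by simp)
    exact hz'.2 (by rw [← h1]; exact (h g ⟨hg, hgd⟩).1 h0)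
  · obtain ⟨g, hg, h1, h2⟩ := G12_mixed hxd hyd
    exact h2 ((h g hg).1 h1)
  · obtain ⟨g, hg, h1, h2⟩ := G12_mixed hyd hxd
    exact h2 ((h g hg).2 h1)
  · obtain ⟨z, hz, hz'⟩ := exists_not_mem_d (compl_dod D0_mem) {x, y} (by
      have := Finset.card_le_two (a := x) (b := y); omega)
    rw [Finset.mem_insert, Finset.mem_singleton, not_or] at hz'
    obtain ⟨g, hg, hgd, hh⟩ := M12_lists (compl_dod D0_mem) [x, y] [x, z] (by simp [hne])
      (by simp [Ne.symm hz'.1]) (by simp [hxd, hyd]) (by simp [hxd, Finset.mem_compl.1 hz]) rfl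
      (by simp)
    have h0 : g x = x := hh 0 (by simp)
    have h1 : g y = z := hh 1 (by simp)
    exact hz'.2 (by rw [← h1]; exact (h g ⟨hg, smul_D0_of_compl hgd⟩).1 h0)

theorem moved12 (x : GolayPt) : ∃ g ∈ G12, g x ≠ x := by
  by_cases hxd : x ∈ D0
  · obtain ⟨z, hz, hz'⟩ := exists_not_mem_d D0_mem {x} (by simp)
    rw [Finset.mem_singleton] at hz'
    obtain ⟨g, hg, h⟩ := G12_trans_in hxd hz
    exact ⟨g, hg, by rw [h]; exact hz'⟩
  · obtain ⟨z, hz, hz'⟩ := exists_not_mem_d (compl_dod D0_mem) {x} (by simp)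
    rw [Finset.mem_singleton] at hz'
    obtain ⟨g, hg, h⟩ := G12_trans_out hxd (Finset.mem_compl.1 hz)
    exact ⟨g, hg, by rw [h]; exact hz'⟩

theorem sep11 (x y : GolayPt) (hx : ∃ g ∈ G11, g x ≠ x)
    (h : ∀ g ∈ G11, g x = x ↔ g y = y) : x = y := by
  by_contra hne
  have hx0 : x ≠ some 0 := by
    rintro rfl
    obtain ⟨g, hg, hgx⟩ := hx
    exact hgx hg.2
  have hy0 : y ≠ some 0 := by
    rintro rfl
    obtain ⟨g, hg, hgx⟩ := hx
    exact hgx ((h g hg).2 hg.2)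
  have hst : G11 ⊓ St x = G11 ⊓ St y := by
    ext g
    rw [Subgroup.mem_inf, Subgroup.mem_inf]
    constructor
    · rintro ⟨h1, h2⟩
      exact ⟨h1, (h g h1).1 h2⟩
    · rintro ⟨h1, h2⟩
      exact ⟨h1, (h g h1).2 h2⟩
  by_cases hxd : x ∈ D0 <;> by_cases hyd : y ∈ D0
  · obtain ⟨z, hz, hz'⟩ := exists_not_mem_d D0_mem {some 0, x, y} (by
      have := Finset.card_le_three (a := (some 0 : GolayPt)) (b := x) (c := y); omega)
    rw [Finset.mem_insert, Finset.mem_insert, Finset.mem_singleton, not_or, not_or] at hz'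
    obtain ⟨g, hg, hgd, hh⟩ := M12_lists D0_mem [some 0, x, y] [some 0, x, z]
      (by simp [hne, Ne.symm hx0, Ne.symm hy0])
      (by simp [Ne.symm hx0, Ne.symm hz'.1, Ne.symm hz'.2.1]) (by simp [hxd, hyd, zero_mem_D0])
      (by simp [hxd, hz, zero_mem_D0]) rfl (by simp)
    have h0 : g x = x := hh 1 (by simp)
    have h1 : g y = z := hh 2 (by simp)
    exact hz'.2.2 (by rw [← h1]; exact (h g ⟨⟨hg, hgd⟩, hh 0 (by simp)⟩).1 h0)
  · have h1 := card_G11_St_in hxd hx0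
    rw [hst, card_G11_St_out hyd] at h1
    omega
  · have h1 := card_G11_St_in hyd hy0
    rw [← hst, card_G11_St_out hxd] at h1
    omega
  · obtain ⟨z, hz, hz'⟩ := exists_not_mem_d (compl_dod D0_mem) {x, y} (by
      have := Finset.card_le_two (a := x) (b := y); omega)
    rw [Finset.mem_insert, Finset.mem_singleton, not_or] at hz'
    obtain ⟨g, hg, h0, h1⟩ := G11_two hxd hyd (Finset.mem_compl.1 hz) hne (Ne.symm hz'.1)
      (Ne.symm hz'.2)
    exact hz'.2 (by rw [← h1]; exact (h g hg).1 h0)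

end Cfsg.Agent.Lib.Helper28.OutMath
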