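import Mathlib

set_option autoImplicit false

namespace Cfsg.Agent.Lib.Helper28

variable {G : Type*} [Group G] [Finite G] {p : ℕ} [Fact p.Prime]

/-- Sylow's theorem inside a subgroup `K` containing a Sylow subgroup `P` of `G`. -/
theorem exists_conj_mem_sylow (K : Subgroup G) (P : Sylow p G) (hPK : (P : Subgroup G) ≤ K)
    (R : Subgroup G) (hR : IsPGroup p R) (hRK : R ≤ K) :
    ∃ k ∈ K, ∀ r ∈ R, k * r * k⁻¹ ∈ (P : Subgroup G) := by
  have hR' : IsPGroup p ↥(R.subgroupOf K) := hR.of_equiv (Subgroup.subgroupOfEquivOfLe hRK).symm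
  obtain ⟨S, hS⟩ := hR'.exists_le_sylow
  obtain ⟨k, hk⟩ := MulAction.exists_smul_eq ↥K S (P.subtype hPK)
  refine ⟨k, k.2, ?_⟩
  intro r hr
  have h2 : (⟨r, hRK hr⟩ : ↥K) ∈ (S : Subgroup ↥K) :=
    hS (by simpa [Subgroup.mem_subgroupOf] using hr)
  have h3 : k * (⟨r, hRK hr⟩ : ↥K) * k⁻¹ ∈ ((k • S : Sylow p ↥K) : Subgroup ↥K) := by
    rw [Sylow.coe_subgroup_smul, Subgroup.mem_pointwise_smul_iff_inv_smul_mem]
    simpa [MulAut.smul_def, mul_assoc] using h2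
  rw [hk] at h3
  have h4 : k * (⟨r, hRK hr⟩ : ↥K) * k⁻¹ ∈ (P : Subgroup G).subgroupOf K := h3
  rw [Subgroup.mem_subgroupOf] at h4
  simpa using h4

/-- Two `p`-elements of a subgroup `K` can be brought into a common `p`-subgroup by conjugating one of them in `K`. -/
theorem exists_common_pgroup (K : Subgroup G) (a b : G) (ha : a ∈ K) (hb : b ∈ K)
    (hpa : IsPGroup p (Subgroup.zpowers a)) (hpb : IsPGroup p (Subgroup.zpowers b)) :
    ∃ c ∈ K, ∃ R : Subgroup G, IsPGroup p R ∧ a ∈ R ∧ c * b * c⁻¹ ∈ R := by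
  have hA : Subgroup.zpowers a ≤ K := by rw [Subgroup.zpowers_le]; exact ha
  have hB : Subgroup.zpowers b ≤ K := by rw [Subgroup.zpowers_le]; exact hb
  have hA' : IsPGroup p ↥((Subgroup.zpowers a).subgroupOf K) :=
    hpa.of_equiv (Subgroup.subgroupOfEquivOfLe hA).symm
  have hB' : IsPGroup p ↥((Subgroup.zpowers b).subgroupOf K) :=
    hpb.of_equiv (Subgroup.subgroupOfEquivOfLe hB).symm
  obtain ⟨S₁, hS₁⟩ := hA'.exists_le_sylow
  obtain ⟨S₂, hS₂⟩ := hB'.exists_le_sylow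
  obtain ⟨c, hc⟩ := MulAction.exists_smul_eq ↥K S₂ S₁
  refine ⟨c, c.2, (S₁ : Subgroup ↥K).map K.subtype, S₁.2.map _, ?_, ?_⟩
  · exact ⟨⟨a, ha⟩, hS₁ (by simp [Subgroup.mem_subgroupOf]), rfl⟩
  · have h2 : (⟨b, hb⟩ : ↥K) ∈ (S₂ : Subgroup ↥K) := hS₂ (by simp [Subgroup.mem_subgroupOf])
    have h3 : c * (⟨b, hb⟩ : ↥K) * c⁻¹ ∈ ((c • S₂ : Sylow p ↥K) : Subgroup ↥K) := by
      rw [Sylow.coe_subgroup_smul, Subgroup.mem_pointwise_smul_iff_inv_smul_mem]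
      simpa [MulAut.smul_def, mul_assoc] using h2
    rw [hc] at h3
    exact ⟨_, h3, by simp⟩

theorem isPGroup_zpowers_of_orderOf {x : G} {k : ℕ} (hx : orderOf x = p ^ k) :
    IsPGroup p (Subgroup.zpowers x) :=
  IsPGroup.of_card (n := k) (by rw [Nat.card_zpowers, hx])

end Cfsg.Agent.Lib.Helper28
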